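import Groth.Prelude.Def_CohCx
import Groth.Agent.SiteCohomology.CohomologyPresheaf
import Mathlib.Algebra.Homology.DerivedCategory.KInjective
import Mathlib.Algebra.Homology.HomotopyCategory.HomComplexSingle

/-!
# Cohomology of K-injective complexes of abelian sheaves is computed by sections

For a K-injective complex `I` of abelian sheaves, the presheaf `U ↦ H^n(U, I)` (morphisms in the
derived category) is the `n`-th homology of the complex of presheaves underlying `I`.
-/

set_option autoImplicit false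
universe w u v' u'

open CategoryTheory Limits Opposite CochainComplex.HomComplex

set_option synthInstance.maxHeartbeats 400000
set_option maxHeartbeats 4000000
set_option linter.unusedSectionVars false

namespace Groth.Misc7.HDU

section General

variable {A : Type u'} [Category.{v'} A] [Abelian A] [HasDerivedCategory.{w} A]

/-- A map of complexes into a shift gives a map into the shift in the derived category. -/
noncomputable def toD (I : CochainComplex A ℤ) (n : ℤ) (X : A) :
    ((CochainComplex.singleFunctor A 0).obj X ⟶ I⟦n⟧) →+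
      ((DerivedCategory.singleFunctor A 0).obj X ⟶ (DerivedCategory.Q.obj I)⟦n⟧) :=
  AddMonoidHom.mk' (fun φ => (DerivedCategory.singleFunctorIsoCompQ A 0).hom.app X ≫
      DerivedCategory.Q.map φ ≫ (DerivedCategory.Q.commShiftIso n).hom.app I) fun a b => by
    simp [Preadditive.add_comp, Preadditive.comp_add]

lemma toD_precomp (I : CochainComplex A ℤ) (n : ℤ) {X X' : A} (g : X' ⟶ X)
    (φ : (CochainComplex.singleFunctor A 0).obj X ⟶ I⟦n⟧) :
    toD I n X' ((CochainComplex.singleFunctor A 0).map g ≫ φ) =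
      (DerivedCategory.singleFunctor A 0).map g ≫ toD I n X φ := by
  have h := (DerivedCategory.singleFunctorIsoCompQ A 0).hom.naturality g
  change _ ≫ DerivedCategory.Q.map (_ ≫ φ) ≫ _ = _ ≫ _ ≫ DerivedCategory.Q.map φ ≫ _
  simp only [Functor.comp_map] at h
  simp only [Functor.map_comp, Category.assoc]
  rw [← reassoc_of% h]

lemma toD_surjective (I : CochainComplex A ℤ) [I.IsKInjective] (n : ℤ) (X : A) :
    Function.Surjective (toD I n X) := by
  intro x
  let K := (CochainComplex.singleFunctor A 0).obj X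
  obtain ⟨g, hg⟩ := (CochainComplex.IsKInjective.Qh_map_bijective
    ((HomotopyCategory.quotient _ _).obj K) (I⟦n⟧)).surjective
      ((DerivedCategory.quotientCompQhIso A).hom.app K ≫
        ((DerivedCategory.singleFunctorIsoCompQ A 0).inv.app X ≫ x ≫
          (DerivedCategory.Q.commShiftIso n).inv.app I) ≫
        (DerivedCategory.quotientCompQhIso A).inv.app (I⟦n⟧))
  obtain ⟨φ, rfl⟩ := (HomotopyCategory.quotient _ _).map_surjective g
  have h := (DerivedCategory.quotientCompQhIso A).hom.naturality φ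
  refine ⟨φ, ?_⟩
  have e : DerivedCategory.Q.map φ = (DerivedCategory.singleFunctorIsoCompQ A 0).inv.app X ≫ x ≫
      (DerivedCategory.Q.commShiftIso n).inv.app I := by
    rw [← cancel_epi ((DerivedCategory.quotientCompQhIso A).hom.app K)]
    refine h.symm.trans ?_
    rw [Functor.comp_map, hg]
    simp [K]
  change _ ≫ DerivedCategory.Q.map φ ≫ _ = x
  rw [e]
  simp

lemma toD_eq_zero_iff (I : CochainComplex A ℤ) [I.IsKInjective] (n : ℤ) (X : A)
    (φ : (CochainComplex.singleFunctor A 0).obj X ⟶ I⟦n⟧) :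
    toD I n X φ = 0 ↔ (HomotopyCategory.quotient _ _).map φ = 0 := by
  have h := (DerivedCategory.quotientCompQhIso A).hom.naturality φ
  have hb := (CochainComplex.IsKInjective.Qh_map_bijective
    ((HomotopyCategory.quotient _ _).obj ((CochainComplex.singleFunctor A 0).obj X)) (I⟦n⟧)).injective
  constructor
  · intro h0
    apply hb
    have e : DerivedCategory.Q.map φ = 0 := by
      change _ ≫ DerivedCategory.Q.map φ ≫ _ = 0 at h0
      rwa [Preadditive.IsIso.comp_left_eq_zero, Preadditive.IsIso.comp_right_eq_zero] at h0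
    rw [Functor.map_zero, ← cancel_mono ((DerivedCategory.quotientCompQhIso A).hom.app (I⟦n⟧))]
    refine h.trans ?_
    rw [e, comp_zero, zero_comp]
  · intro h0
    change _ ≫ DerivedCategory.Q.map φ ≫ _ = 0
    rw [Functor.comp_map, h0, Functor.map_zero, zero_comp] at h
    have e : DerivedCategory.Q.map φ = 0 := by
      rw [← cancel_epi ((DerivedCategory.quotientCompQhIso A).hom.app _), comp_zero]
      exact h.symm
    simp [e]

/-- A cocycle as a map of complexes. -/
noncomputable def cocycleHom (I : CochainComplex A ℤ) (n : ℤ) {X : A} (f : X ⟶ I.X n)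
    (hf : f ≫ I.d n (n + 1) = 0) : (CochainComplex.singleFunctor A 0).obj X ⟶ I⟦n⟧ :=
  Cocycle.equivHomShift.symm (Cocycle.fromSingleMk f (zero_add n) (n + 1) rfl hf)

lemma toD_cocycleHom_eq_zero_iff (I : CochainComplex A ℤ) [I.IsKInjective] (n : ℤ) {X : A}
    (f : X ⟶ I.X n) (hf : f ≫ I.d n (n + 1) = 0) :
    toD I n X (cocycleHom I n f hf) = 0 ↔ ∃ g : X ⟶ I.X (n - 1), g ≫ I.d (n - 1) n = f := by
  rw [toD_eq_zero_iff]
  refine Iff.trans ?_ (Cocycle.fromSingleMk_mem_coboundaries_iff f (zero_add n) (n + 1) rfl hf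
    (n - 1) (by omega))
  rw [← CohomologyClass.toHom_mk_eq_zero_iff, CohomologyClass.toHom_mk]
  rfl

lemma exists_cocycleHom (I : CochainComplex A ℤ) [I.IsKInjective] (n : ℤ) {X : A}
    (x : (DerivedCategory.singleFunctor A 0).obj X ⟶ (DerivedCategory.Q.obj I)⟦n⟧) :
    ∃ (f : X ⟶ I.X n) (hf : f ≫ I.d n (n + 1) = 0), toD I n X (cocycleHom I n f hf) = x := by
  obtain ⟨φ, rfl⟩ := toD_surjective I n X x
  obtain ⟨f, hf, e⟩ := Cocycle.fromSingleMk_surjective (Cocycle.equivHomShift φ) n (zero_add n)
    (n + 1) rfl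
  refine ⟨f, hf, ?_⟩
  rw [cocycleHom, e, AddEquiv.symm_apply_apply]

lemma cocycleHom_add (I : CochainComplex A ℤ) (n : ℤ) {X : A} (f g : X ⟶ I.X n)
    (hf : f ≫ I.d n (n + 1) = 0) (hg : g ≫ I.d n (n + 1) = 0) :
    cocycleHom I n (f + g) (by simp [hf, hg]) = cocycleHom I n f hf + cocycleHom I n g hg := by
  rw [cocycleHom, Cocycle.fromSingleMk_add f g _ _ _ hf hg, map_add]
  rfl

lemma cocycleHom_precomp (I : CochainComplex A ℤ) (n : ℤ) {X X' : A} (g : X' ⟶ X) (f : X ⟶ I.X n)
    (hf : f ≫ I.d n (n + 1) = 0) :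
    cocycleHom I n (g ≫ f) (by simp [hf]) =
      (CochainComplex.singleFunctor A 0).map g ≫ cocycleHom I n f hf := by
  rw [cocycleHom, Cocycle.fromSingleMk_precomp g f _ _ _ hf, Cocycle.equivHomShift_symm_precomp]
  rfl

lemma cocycleHom_congr (I : CochainComplex A ℤ) (n : ℤ) {X : A} {f g : X ⟶ I.X n} (h : f = g)
    (hf : f ≫ I.d n (n + 1) = 0) (hg : g ≫ I.d n (n + 1) = 0) :
    cocycleHom I n f hf = cocycleHom I n g hg := by subst h; rfl

end General

open Groth.SiteCohomology

/-- Homology of a complex of presheaves of abelian groups computed from a map on cycles. -/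
theorem nonempty_homology_iso {D : Type u} [SmallCategory D] {ι : Type*} {c : ComplexShape ι}
    (K : HomologicalComplex (D ⥤ AddCommGrpCat.{u}) c) (i n : ι) (hi : c.prev n = i)
    {H : D ⥤ AddCommGrpCat.{u}} (φ : K.cycles n ⟶ H) (hs : ∀ U, Function.Surjective (φ.app U))
    (hk : ∀ U (z : (K.cycles n).obj U), φ.app U z = 0 ↔ ∃ x, (K.toCycles i n).app U x = z) :
    Nonempty (K.homology n ≅ H) := by
  have w : K.toCycles i n ≫ φ = 0 := by
    ext U x
    exact (hk U _).2 ⟨x, rfl⟩
  have hepi : Epi φ :=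
    have : ∀ U, Epi (φ.app U) := fun U => (AddCommGrpCat.epi_iff_surjective _).2 (hs U)
    NatTrans.epi_of_epi_app _
  have hex : (ShortComplex.mk _ φ w).Exact := exact_of_evaluation _ fun U =>
    (ShortComplex.ab_exact_iff _).2 fun z hz => (hk U z).1 hz
  exact ⟨IsColimit.coconePointUniqueUpToIso (K.homologyIsCokernel i n hi)
    (@ShortComplex.Exact.gIsCokernel _ _ _ (ShortComplex.mk _ φ w) _ hex hepi)⟩

variable {C : Type u} [SmallCategory C] {J : GrothendieckTopology C}

/-- The complex of presheaves underlying a complex of sheaves. -/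
noncomputable abbrev preZ (I : CochainComplex (Sheaf J AddCommGrpCat.{u}) ℤ) :
    CochainComplex (Cᵒᵖ ⥤ AddCommGrpCat.{u}) ℤ :=
  ((sheafToPresheaf J AddCommGrpCat.{u}).mapHomologicalComplex (ComplexShape.up ℤ)).obj I

variable (I : CochainComplex (Sheaf J AddCommGrpCat.{u}) ℤ)

/-- The section underlying a cycle. -/
noncomputable def secZ (n : ℤ) (U : C) :
    ((preZ I).cycles n).obj (op U) →+ (I.X n).obj.obj (op U) :=
  (((preZ I).iCycles n).app (op U)).hom

lemma secZ_injective (n : ℤ) (U : C) : Function.Injective (secZ I n U) :=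
  (AddCommGrpCat.mono_iff_injective (((preZ I).iCycles n).app (op U))).1 inferInstance

lemma secZ_map (n : ℤ) {U V : C} (f : V ⟶ U) (z : ((preZ I).cycles n).obj (op U)) :
    secZ I n V (((preZ I).cycles n).map f.op z) = (I.X n).obj.map f.op (secZ I n U z) :=
  ConcreteCategory.congr_hom (((preZ I).iCycles n).naturality f.op) z

lemma secZ_toCycles (i n : ℤ) (U : C) (x : (I.X i).obj.obj (op U)) :
    secZ I n U (((preZ I).toCycles i n).app (op U) x) = (I.d i n).hom.app (op U) x :=
  ConcreteCategory.congr_hom (NatTrans.congr_app ((preZ I).toCycles_i i n) (op U)) x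

lemma secZ_d (n : ℤ) (U : C) (z : ((preZ I).cycles n).obj (op U)) :
    CohFree.ofSect J U (I.X n) (secZ I n U z) ≫ I.d n (n + 1) = 0 :=
  (ofSect_comp _ _).trans ((congrArg _ (ConcreteCategory.congr_hom
    (NatTrans.congr_app ((preZ I).iCycles_d n (n + 1)) (op U)) z)).trans ofSect_zero)

lemma exists_secZ (n : ℤ) (U : C) (s : (I.X n).obj.obj (op U))
    (hs : (I.d n (n + 1)).hom.app (op U) s = 0) : ∃ z, secZ I n U z = s := by
  have hex : (ShortComplex.mk ((preZ I).iCycles n) ((preZ I).d n (n + 1))
      ((preZ I).iCycles_d n (n + 1))).Exact :=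
    ShortComplex.exact_of_f_is_kernel _
      ((preZ I).cyclesIsKernel n (n + 1) (CochainComplex.next ℤ n))
  exact (ShortComplex.ab_exact_iff _).1
    (hex.map ((evaluation Cᵒᵖ AddCommGrpCat.{u}).obj (op U))) s hs

variable [HasDerivedCategory.{u} (Sheaf J AddCommGrpCat.{u})]

/-- The map from cycles to the cohomology presheaf. -/
noncomputable def cyclesToHDU (n : ℤ) :
    (preZ I).cycles n ⟶ CohCx.HDUPresheaf (DerivedCategory.Q.obj I) n where
  app U := AddCommGrpCat.ofHom (AddMonoidHom.mk'
    (fun z => toD I n _ (cocycleHom I n (CohFree.ofSect J U.unop _ (secZ I n U.unop z))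
      (secZ_d I n U.unop z))) fun a b => by
    refine Eq.trans ?_ (map_add _ _ _)
    refine congrArg _ ((cocycleHom_congr I n ?_ _ _).trans (cocycleHom_add I n _ _
      (secZ_d I n U.unop a) (secZ_d I n U.unop b)))
    rw [map_add, ofSect_add])
  naturality U V f := by
    ext z
    refine Eq.trans ?_ (toD_precomp I n (CohCx.freeSheafMap J f.unop) _)
    change toD I n _ (cocycleHom I n (CohFree.ofSect J V.unop _
      (secZ I n V.unop (((preZ I).cycles n).map f.unop.op z))) _) = _
    refine congrArg _ ((cocycleHom_congr I n ?_ _ _).trans (cocycleHom_precomp I n _ _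
      (secZ_d I n U.unop z)))
    exact (congrArg _ (secZ_map I n f.unop z)).trans (freeSheafMap_comp_ofSect f.unop _).symm

/-- The cohomology presheaf of a K-injective complex is the homology of its sections. -/
theorem nonempty_homology_iso_HDUPresheaf [I.IsKInjective] (n : ℤ) :
    Nonempty ((preZ I).homology n ≅ CohCx.HDUPresheaf (DerivedCategory.Q.obj I) n) := by
  refine nonempty_homology_iso (preZ I) (n - 1) n (CochainComplex.prev ℤ n) (cyclesToHDU I n)
    (fun U x => ?_) (fun U z => ?_)
  · obtain ⟨f, hf, e⟩ := exists_cocycleHom I n x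
    obtain ⟨s, rfl⟩ := ofSect_surjective f
    obtain ⟨z, rfl⟩ := exists_secZ I n U.unop s
      (ofSect_injective ((ofSect_comp _ _).symm.trans (hf.trans ofSect_zero.symm)))
    exact ⟨z, e⟩
  · refine (toD_cocycleHom_eq_zero_iff I n _ _).trans ⟨?_, ?_⟩
    · rintro ⟨g, hg⟩
      obtain ⟨x, rfl⟩ := ofSect_surjective g
      exact ⟨x, secZ_injective I n U.unop
        ((secZ_toCycles I _ n U.unop x).trans (ofSect_injective ((ofSect_comp _ _).symm.trans hg)))⟩
    · rintro ⟨x, hx⟩
      refine ⟨CohFree.ofSect J U.unop _ x, (ofSect_comp _ _).trans (congrArg _ ?_)⟩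
      exact (secZ_toCycles I _ n U.unop x).symm.trans (congrArg _ hx)

end Groth.Misc7.HDU
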