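import Groth.Agent.Misc7.HDU.Push

/-!
# K-injective representatives and cohomology sheaves
-/

set_option autoImplicit false
universe u

open CategoryTheory Limits Opposite

set_option synthInstance.maxHeartbeats 400000
set_option maxHeartbeats 4000000

namespace Groth.Misc7.HDU

variable {C : Type u} [SmallCategory C] {J : GrothendieckTopology C}
  [HasDerivedCategory.{u} (Sheaf J AddCommGrpCat.{u})]

/-- Every object has a K-injective representative with injective terms. -/
theorem exists_kInjective_iso (K : DerivedCategory (Sheaf J AddCommGrpCat.{u})) :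
    ∃ I : CochainComplex (Sheaf J AddCommGrpCat.{u}) ℤ, I.IsKInjective ∧ (∀ n, Injective (I.X n)) ∧
      Nonempty (DerivedCategory.Q.obj I ≅ K) := by
  obtain ⟨I, i, -, hi, hI, hinj⟩ :=
    Groth.DerivedCoh.KInjRes.exists_resolution (DerivedCategory.Q.objPreimage K)
  exact ⟨I, hI, hinj, ⟨(asIso (DerivedCategory.Q.map i)).symm ≪≫ DerivedCategory.Q.objObjPreimageIso K⟩⟩

/-- The cohomology presheaf is functorial in isomorphisms. -/
noncomputable def hduPresheafMapIso {K K' : DerivedCategory (Sheaf J AddCommGrpCat.{u})} (e : K ≅ K')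
    (n : ℤ) : CohCx.HDUPresheaf K n ≅ CohCx.HDUPresheaf K' n :=
  Functor.isoWhiskerLeft _ (preadditiveYoneda.mapIso ((shiftFunctor _ n).mapIso e))

/-- Cohomology presheaves computed by sections of a K-injective representative. -/
theorem exists_sections_model (K : DerivedCategory (Sheaf J AddCommGrpCat.{u})) :
    ∃ I : CochainComplex (Sheaf J AddCommGrpCat.{u}) ℤ, I.IsKInjective ∧ (∀ n, Injective (I.X n)) ∧
      (∀ n, Nonempty ((preZ I).homology n ≅ CohCx.HDUPresheaf K n)) ∧
      (∀ n, Nonempty (I.homology n ≅ CohCx.HD K n)) := by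
  obtain ⟨I, hI, hinj, ⟨e⟩⟩ := exists_kInjective_iso K
  refine ⟨I, hI, hinj, fun n => ?_, fun n =>
    ⟨((DerivedCategory.homologyFunctorFactors _ n).app I).symm ≪≫
      (DerivedCategory.homologyFunctor _ n).mapIso e⟩⟩
  obtain ⟨a⟩ := nonempty_homology_iso_HDUPresheaf I n
  exact ⟨a ≪≫ hduPresheafMapIso e n⟩

/-- The cohomology sheaf is the sheafified cohomology presheaf. -/
theorem nonempty_sheafify_HDUPresheaf_iso (K : DerivedCategory (Sheaf J AddCommGrpCat.{u})) (q : ℤ) :
    Nonempty ((presheafToSheaf J AddCommGrpCat.{u}).obj (CohCx.HDUPresheaf K q) ≅ CohCx.HD K q) := by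
  obtain ⟨I, hI, -, ha, hb⟩ := exists_sections_model K
  obtain ⟨a⟩ := ha q
  obtain ⟨b⟩ := hb q
  obtain ⟨c⟩ := nonempty_presheafToSheaf_homology_iso I q
  exact ⟨Functor.mapIso _ a.symm ≪≫ c ≪≫ b⟩

end Groth.Misc7.HDU
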