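import Groth.Agent.Misc7.HDU.Sections
import Groth.Agent.SiteCohomology.Flasque
import Groth.Agent.DerivedCoh.KInj.Resolution
import Groth.Agent.DerivedAdj.Basic
import Mathlib.Algebra.Homology.DerivedCategory.DerivabilityStructureInjectives

/-!
# Direct images of K-injective complexes of abelian sheaves with vanishing negative sections on a basis
-/

set_option autoImplicit false
universe w u v₁ v₂ u₁ u₂

open CategoryTheory Limits Opposite TopologicalSpace

set_option synthInstance.maxHeartbeats 400000
set_option maxHeartbeats 4000000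
set_option linter.unusedSectionVars false

namespace Groth.Misc7.HDU

section Adj

variable {A : Type u₁} [Category.{v₁} A] [Abelian A] {B : Type u₂} [Category.{v₂} B] [Abelian B]
  {w : B ⥤ A} {u : A ⥤ B} (adj : w ⊣ u) [w.Additive] [u.Additive]

include adj in
/-- Right adjoints of exact functors preserve K-injectivity. -/
lemma isKInjective_map_of_adjunction [PreservesFiniteLimits w] [PreservesFiniteColimits w]
    (I : CochainComplex A ℤ) [I.IsKInjective] :
    CochainComplex.IsKInjective ((u.mapHomologicalComplex (ComplexShape.up ℤ)).obj I) where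
  nonempty_homotopy_zero {M} φ hM := by
    let ψ : (w.mapHomologicalComplex (ComplexShape.up ℤ)).obj M ⟶ I :=
      { f := fun n => (adj.homEquiv _ _).symm (φ.f n)
        comm' := fun i j _ => by
          change (adj.homEquiv _ _).symm (φ.f i) ≫ I.d i j =
            w.map (M.d i j) ≫ (adj.homEquiv _ _).symm (φ.f j)
          rw [← adj.homEquiv_naturality_left_symm, ← adj.homEquiv_naturality_right_symm]
          exact congrArg _ (φ.comm i j) }
    have hwM : ((w.mapHomologicalComplex (ComplexShape.up ℤ)).obj M).Acyclic := fun n => by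
      rw [HomologicalComplex.exactAt_iff]
      exact ((HomologicalComplex.exactAt_iff _ _).1 (hM n)).map w
    obtain ⟨h⟩ := CochainComplex.IsKInjective.nonempty_homotopy_zero ψ hwM
    refine ⟨HomotopyCategory.homotopyOfEq _ _ ?_⟩
    let e := (Groth.DerivedAdj.mapHomotopyCategoryAdj adj (ComplexShape.up ℤ))
    apply (e.homEquiv ((HomotopyCategory.quotient B _).obj M)
      ((HomotopyCategory.quotient A _).obj I)).symm.injective
    have e1 : (e.homEquiv ((HomotopyCategory.quotient B _).obj M)
        ((HomotopyCategory.quotient A _).obj I)).symm ((HomotopyCategory.quotient B _).map φ) =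
          (HomotopyCategory.quotient A _).map ψ := by
      rw [Adjunction.homEquiv_counit]
      refine ((HomotopyCategory.quotient A _).map_comp _ _).symm.trans (congrArg _ ?_)
      ext n
      exact (adj.homEquiv_counit _ _ _).symm
    refine e1.trans ?_
    rw [HomotopyCategory.eq_of_homotopy ψ 0 h, Functor.map_zero, Functor.map_zero]
    refine Eq.symm ?_
    rw [Adjunction.homEquiv_counit]
    exact (congrArg (· ≫ _) (Functor.map_zero _ _ _)).trans zero_comp

end Adj

variable {C : Type u} [SmallCategory C] {J : GrothendieckTopology C}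

/-- A presheaf vanishing on enough objects sheafifies to zero. -/
lemma isZero_presheafToSheaf_obj (P : Cᵒᵖ ⥤ AddCommGrpCat.{u})
    (h : ∀ U : C, ∃ S ∈ J U, ∀ ⦃V : C⦄ (g : V ⟶ U), S g → ∃ (W : C) (a : V ⟶ W) (b : W ⟶ U),
      a ≫ b = g ∧ Subsingleton (P.obj (op W))) :
    IsZero ((presheafToSheaf J AddCommGrpCat.{u}).obj P) := by
  let Z : Cᵒᵖ ⥤ AddCommGrpCat.{u} := (Functor.const _).obj (AddCommGrpCat.of PUnit.{u + 1})
  have hZ : ∀ U, Subsingleton (Z.obj U : AddCommGrpCat.{u}) := fun _ =>
    inferInstanceAs (Subsingleton PUnit.{u + 1})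
  let z : P ⟶ Z := 0
  have : Presheaf.IsLocallySurjective J z :=
    Presheaf.isLocallySurjective_of_surjective J z fun U s => ⟨0, @Subsingleton.elim _ (hZ U) _ _⟩
  have : Presheaf.IsLocallyInjective J z :=
    ⟨fun {U} x y _ => by
      obtain ⟨S, hS, hS'⟩ := h U.unop
      refine J.superset_covering (fun V g hg => ?_) hS
      obtain ⟨W, a, b, rfl, hW⟩ := hS' g hg
      change P.map (a ≫ b).op x = P.map (a ≫ b).op y
      rw [op_comp, P.map_comp]
      exact congrArg (P.map a.op) (@Subsingleton.elim _ hW (P.map b.op x) (P.map b.op y))⟩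
  have : IsIso ((presheafToSheaf J AddCommGrpCat.{u}).map z) :=
    (GrothendieckTopology.W_iff J z).1 (J.W_of_isLocallyBijective z)
  refine IsZero.of_iso ?_ (asIso ((presheafToSheaf J AddCommGrpCat.{u}).map z))
  exact Functor.map_isZero _ (Functor.isZero _ fun U =>
    @AddCommGrpCat.isZero_of_subsingleton _ (hZ U))

/-- The homology sheaves are the sheafified homology presheaves. -/
lemma nonempty_presheafToSheaf_homology_iso (L : CochainComplex (Sheaf J AddCommGrpCat.{u}) ℤ) (n : ℤ) :
    Nonempty ((presheafToSheaf J AddCommGrpCat.{u}).obj ((preZ L).homology n) ≅ L.homology n) := by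
  have : (presheafToSheaf J AddCommGrpCat.{u}).Additive :=
    (sheafificationAdjunction J AddCommGrpCat.{u}).left_adjoint_additive
  exact ⟨(((preZ L).sc n).mapHomologyIso (presheafToSheaf J AddCommGrpCat.{u})).symm ≪≫
    (HomologicalComplex.homologyFunctor _ _ n).mapIso
      (HomologicalComplex.Hom.isoOfComponents
        (fun i => (asIso (sheafificationAdjunction J AddCommGrpCat.{u}).counit).app (L.X i))
        (fun i j _ => ((sheafificationAdjunction J AddCommGrpCat.{u}).counit.naturality (L.d i j)).symm) :
        ((presheafToSheaf J AddCommGrpCat.{u}).mapHomologicalComplex _).obj (preZ L) ≅ L)⟩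

/-- A K-injective complex with vanishing negative homology sheaves has vanishing negative
homology presheaves, and the homology presheaf in degree zero is a sheaf. -/
theorem sections_of_kInjective (L : CochainComplex (Sheaf J AddCommGrpCat.{u}) ℤ) [L.IsKInjective]
    (h : ∀ n : ℤ, n < 0 → IsZero (L.homology n)) :
    (∀ n : ℤ, n < 0 → IsZero ((preZ L).homology n)) ∧ Presheaf.IsSheaf J ((preZ L).homology 0) := by
  have : L.IsGE 0 := (CochainComplex.isGE_iff L 0).2 fun i hi =>
    (HomologicalComplex.exactAt_iff_isZero_homology _ _).2 (h i hi)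
  obtain ⟨M, i, hi, hinj, hM⟩ :=
    CochainComplex.Plus.modelCategoryQuillen.exists_quasiIso_injective (L.truncGE 0) 0
  have : M.IsKInjective := CochainComplex.isKInjective_of_injective M 0
  have : QuasiIso (L.πTruncGE 0) := inferInstance
  have he := (CochainComplex.IsKInjective.quasiIso_iff (L.πTruncGE 0 ≫ i)).1 inferInstance
  obtain ⟨e, -⟩ := he
  let e' := fun n => ((sheafToPresheaf J AddCommGrpCat.{u}).mapHomotopyEquiv e).toHomologyIso n
  refine ⟨fun n hn => ?_, ?_⟩
  · refine IsZero.of_iso ?_ (e' n)
    exact ShortComplex.isZero_homology_of_isZero_X₂ _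
      (Functor.map_isZero (sheafToPresheaf J AddCommGrpCat.{u}) (CochainComplex.isZero_of_isStrictlyGE M 0 n hn))
  · have hd : (preZ M).d (-1) 0 = 0 :=
      (Functor.map_isZero (sheafToPresheaf J AddCommGrpCat.{u})
        (CochainComplex.isZero_of_isStrictlyGE M 0 (-1))).eq_of_src _ _
    refine (Presheaf.isSheaf_of_iso_iff ?_).2 (M.cycles 0).property
    exact e' 0 ≪≫ ((preZ M).isoHomologyπ (-1) 0 (by simp) hd).symm ≪≫
      IsLimit.conePointUniqueUpToIso ((preZ M).cyclesIsKernel 0 1 (by simp))
        (KernelFork.mapIsLimit _ (M.cyclesIsKernel 0 1 (by simp))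
          (sheafToPresheaf J AddCommGrpCat.{u}))

end Groth.Misc7.HDU
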