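import Groth.Prelude.Def_CohCx

/-!
# Maps into derived limits of inverse systems in a triangulated category
-/

set_option autoImplicit false
universe v u

open CategoryTheory Limits Pretriangulated

set_option linter.unusedSectionVars false

namespace Groth.Misc7.HDU

variable {T : Type u} [Category.{v} T] [Preadditive T] [HasZeroObject T] [HasShift T ℤ]
  [∀ n : ℤ, (shiftFunctor T n).Additive] [Pretriangulated T]

/-- Change of shifts on morphisms. -/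
noncomputable def tr (A X : T) (k l j : ℤ) (h : k + l = j) (f : A ⟶ X⟦k⟧) : A⟦l⟧ ⟶ X⟦j⟧ :=
  f⟦l⟧' ≫ (shiftFunctorAdd' T k l j h).inv.app X

lemma tr_bijective (A X : T) (k l j : ℤ) (h : k + l = j) :
    Function.Bijective (tr A X k l j h) :=
  (((shiftFunctorAdd' T k l j h).app X).symm.homToEquiv.bijective).comp
    ((Functor.FullyFaithful.ofFullyFaithful (shiftFunctor T l)).map_bijective A (X⟦k⟧))

lemma tr_comp (A : T) {X Y : T} (g : X ⟶ Y) (k l j : ℤ) (h : k + l = j) (f : A ⟶ X⟦k⟧) :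
    tr A Y k l j h (f ≫ g⟦k⟧') = tr A X k l j h f ≫ g⟦j⟧' := by
  simp only [tr, Functor.map_comp, Category.assoc]
  exact congrArg (_ ≫ ·) ((shiftFunctorAdd' T k l j h).inv.naturality g)

variable (K : ℕ → T) [HasProduct K]

lemma exists_lift_shift (A : T) (k : ℤ) (b : ∀ n, A ⟶ (K n)⟦k⟧) :
    ∃ X : A ⟶ (∏ᶜ K)⟦k⟧, ∀ n, X ≫ (Pi.π K n)⟦k⟧' = b n :=
  ⟨(isLimitFanMkObjOfIsLimit (shiftFunctor T k) K (Pi.π K) (productIsProduct K)).lift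
    (Fan.mk A b), fun n =>
      (isLimitFanMkObjOfIsLimit (shiftFunctor T k) K (Pi.π K) (productIsProduct K)).fac
        (Fan.mk A b) ⟨n⟩⟩

lemma shift_hom_ext (A : T) (k : ℤ) {f g : A ⟶ (∏ᶜ K)⟦k⟧}
    (h : ∀ n, f ≫ (Pi.π K n)⟦k⟧' = g ≫ (Pi.π K n)⟦k⟧') : f = g :=
  (isLimitFanMkObjOfIsLimit (shiftFunctor T k) K (Pi.π K) (productIsProduct K)).hom_ext
    fun ⟨n⟩ => h n

variable {K} (t : ∀ n, K (n + 1) ⟶ K n) {L : T} (a : ∀ n, L ⟶ K n)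

lemma comp_diff (A : T) (k : ℤ) (X : A ⟶ (∏ᶜ K)⟦k⟧) (n : ℕ) :
    (X ≫ (Pi.lift fun n => Pi.π K n - Pi.π K (n + 1) ≫ t n)⟦k⟧') ≫ (Pi.π K n)⟦k⟧' =
      X ≫ (Pi.π K n)⟦k⟧' - (X ≫ (Pi.π K (n + 1))⟦k⟧') ≫ (t n)⟦k⟧' := by
  rw [Category.assoc, ← Functor.map_comp, Pi.lift_π, Functor.map_sub, Functor.map_comp,
    Preadditive.comp_sub, Category.assoc]

lemma comp_lift_π (A : T) (k : ℤ) (y : A ⟶ L⟦k⟧) (n : ℕ) :
    (y ≫ (Pi.lift a)⟦k⟧') ≫ (Pi.π K n)⟦k⟧' = y ≫ (a n)⟦k⟧' := by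
  rw [Category.assoc, ← Functor.map_comp, Pi.lift_π]

variable (hL : CohCx.IsRlimVia K t L a)

include hL in
/-- Compatible families lift to the derived limit. -/
theorem exists_of_compatible (A : T) (m : ℤ) (x : ∀ n, A ⟶ (K n)⟦m⟧)
    (hx : ∀ n, x (n + 1) ≫ (t n)⟦m⟧' = x n) : ∃ y : A ⟶ L⟦m⟧, ∀ n, y ≫ (a n)⟦m⟧' = x n := by
  obtain ⟨c, hc⟩ := hL
  obtain ⟨X, hX⟩ := exists_lift_shift K A m x
  let d : (∏ᶜ K) ⟶ ∏ᶜ K := Pi.lift fun n => Pi.π K n - Pi.π K (n + 1) ≫ t n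
  have hd : X ≫ d⟦m⟧' = 0 := shift_hom_ext K A m fun n => by
    rw [comp_diff, hX, hX, hx, sub_self, zero_comp]
  let z := shiftFunctorZero T ℤ
  have h0 : (tr A _ m (-m) 0 (add_neg_cancel m) X ≫ z.hom.app _) ≫ d = 0 := by
    rw [Category.assoc]
    refine (congrArg (_ ≫ ·) (z.hom.naturality d).symm).trans ?_
    rw [← Category.assoc, ← tr_comp, hd]
    simp [tr]
  obtain ⟨y', hy'⟩ := Triangle.coyoneda_exact₂ _ hc _ h0
  obtain ⟨y, hy⟩ := (tr_bijective A L m (-m) 0 (add_neg_cancel m)).2 (y' ≫ z.inv.app L)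
  have e : y ≫ (Pi.lift a)⟦m⟧' = X := by
    apply (tr_bijective A _ m (-m) 0 (add_neg_cancel m)).1
    rw [tr_comp, hy, ← cancel_mono (z.hom.app (∏ᶜ K))]
    refine Eq.trans ?_ hy'.symm
    rw [Category.assoc]
    refine (congrArg (_ ≫ ·) (z.hom.naturality (Pi.lift a))).trans ?_
    simp only [z, Category.assoc]
    exact congrArg (y' ≫ ·) (Iso.inv_hom_id_app_assoc _ _ _)
  exact ⟨y, fun n => by rw [← comp_lift_π, e, hX]⟩

include hL in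
/-- A class with zero images vanishes when `R¹lim` of the previous degree vanishes. -/
theorem eq_zero_of_images (A : T) (m : ℤ)
    (hs : Function.Surjective fun (b : ∀ n, A ⟶ (K n)⟦(m - 1)⟧) (n : ℕ) =>
      b n - b (n + 1) ≫ (t n)⟦(m - 1)⟧')
    (y : A ⟶ L⟦m⟧) (hy : ∀ n, y ≫ (a n)⟦m⟧' = 0) : y = 0 := by
  obtain ⟨c, hc⟩ := hL
  let d : (∏ᶜ K) ⟶ ∏ᶜ K := Pi.lift fun n => Pi.π K n - Pi.π K (n + 1) ≫ t n
  let z := shiftFunctorZero T ℤ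
  have hy0 : y ≫ (Pi.lift a)⟦m⟧' = 0 := shift_hom_ext K A m fun n => by
    rw [comp_lift_π, hy, zero_comp]
  let Tr := (Triangle.mk (Pi.lift a) d c).invRotate
  have hTr : Tr ∈ distinguishedTriangles := inv_rot_of_distTriang _ hc
  have h0 : (tr A _ m (-m) 0 (add_neg_cancel m) y ≫ z.hom.app L) ≫ Pi.lift a = 0 := by
    rw [Category.assoc]
    refine (congrArg (_ ≫ ·) (z.hom.naturality (Pi.lift a)).symm).trans ?_
    rw [← Category.assoc, ← tr_comp, hy0]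
    simp [tr]
  let m₁ : (∏ᶜ K)⟦(-1 : ℤ)⟧ ⟶ L := -c⟦(-1 : ℤ)⟧' ≫ (shiftEquiv T (1 : ℤ)).unitIso.inv.app L
  obtain ⟨g, hg⟩ : ∃ g : A⟦-m⟧ ⟶ (∏ᶜ K)⟦(-1 : ℤ)⟧,
      tr A _ m (-m) 0 (add_neg_cancel m) y ≫ z.hom.app L = g ≫ m₁ :=
    Triangle.coyoneda_exact₂ Tr hTr _ h0
  obtain ⟨g', hg'⟩ := (tr_bijective A (∏ᶜ K) (m - 1) (-m) (-1) (by omega)).2 g
  obtain ⟨b, hb⟩ := hs fun n => g' ≫ (Pi.π K n)⟦(m - 1)⟧'
  obtain ⟨B, hB⟩ := exists_lift_shift K A (m - 1) b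
  have hfac : g = tr A (∏ᶜ K) (m - 1) (-m) (-1) (by omega) B ≫ d⟦(-1 : ℤ)⟧' := by
    rw [← tr_comp, ← hg']
    refine congrArg _ (shift_hom_ext K A (m - 1) fun n => ?_)
    rw [comp_diff, hB, hB]
    exact (congrFun hb n).symm
  have hdc : d⟦(-1 : ℤ)⟧' ≫ m₁ = 0 := by
    have h23 : d ≫ c = 0 := comp_distTriang_mor_zero₂₃ _ hc
    dsimp only [m₁]
    rw [Preadditive.comp_neg, ← Functor.map_comp_assoc, h23]
    simp
  apply (tr_bijective A L m (-m) 0 (add_neg_cancel m)).1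
  rw [← cancel_mono (z.hom.app L)]
  refine hg.trans ?_
  rw [hfac, Category.assoc, hdc, comp_zero]
  simp [tr]

end Groth.Misc7.HDU
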