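import Groth.Agent.Misc7.HDU.Basic
import Groth.Prelude.Def_CohSite
import Mathlib.Algebra.Homology.ShortComplex.Exact

/-!
# Bounded below complexes with acyclic cohomology sheaves on a covering class of objects
-/

set_option autoImplicit false
universe u

open CategoryTheory Limits Opposite
open Groth.SiteCohomology

set_option synthInstance.maxHeartbeats 400000
set_option maxHeartbeats 4000000
set_option linter.unusedSectionVars false

namespace Groth.Misc7.HDU

variable {C : Type u} [SmallCategory C] {J : GrothendieckTopology C}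

/-- A class of objects covering every object. -/
def Covers (J : GrothendieckTopology C) (B : Set C) : Prop :=
  ∀ U : C, ∃ S ∈ J U, ∀ ⦃V : C⦄ (g : V ⟶ U), S g → ∃ (W : C) (a : V ⟶ W) (b : W ⟶ U),
    a ≫ b = g ∧ W ∈ B

lemma covers_of_families (B : Set C)
    (hB : ∀ U : C, ∃ (ι : Type u) (Y : ι → C) (f : ∀ i, Y i ⟶ U),
      Sieve.ofArrows Y f ∈ J U ∧ ∀ i, Y i ∈ B) : Covers J B := fun U => by
  obtain ⟨ι, Y, f, hS, hY⟩ := hB U
  refine ⟨_, hS, ?_⟩
  intro V g hg
  obtain ⟨i, a, rfl⟩ := (Sieve.mem_ofArrows_iff Y f g).1 hg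
  exact ⟨Y i, a, f i, rfl, hY i⟩

/-- A morphism of presheaves bijective on a covering class is inverted by sheafification. -/
lemma W_of_bijective_on {B : Set C} (hB : Covers J B) {P Q : Cᵒᵖ ⥤ AddCommGrpCat.{u}} (φ : P ⟶ Q)
    (h : ∀ W ∈ B, Function.Bijective (φ.app (op W))) : J.W φ := by
  have : Presheaf.IsLocallyInjective J φ := ⟨fun {U} x y hxy => by
    obtain ⟨S, hS, hS'⟩ := hB U.unop
    refine J.superset_covering (fun V g hg => ?_) hS
    obtain ⟨W, a, b, rfl, hW⟩ := hS' g hg
    change P.map (a ≫ b).op x = P.map (a ≫ b).op y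
    rw [op_comp, P.map_comp]
    refine congrArg (P.map a.op) ((h W hW).1 ?_)
    exact (NatTrans.naturality_apply φ b.op x).trans
      ((congrArg (Q.map b.op) hxy).trans (NatTrans.naturality_apply φ b.op y).symm)⟩
  have : Presheaf.IsLocallySurjective J φ := ⟨fun {U} s => by
    obtain ⟨S, hS, hS'⟩ := hB U
    refine J.superset_covering (fun V g hg => ?_) hS
    obtain ⟨W, a, b, rfl, hW⟩ := hS' g hg
    obtain ⟨t, ht⟩ := (h W hW).2 (Q.map b.op s)
    refine ⟨P.map a.op t, ?_⟩
    rw [NatTrans.naturality_apply, ht, op_comp, Q.map_comp]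
    rfl⟩
  exact J.W_of_isLocallyBijective φ

/-- A map to a sheaf bijective on a covering class computes the sheafification there. -/
lemma bijective_toSheafify {B : Set C} (hB : Covers J B) {P : Cᵒᵖ ⥤ AddCommGrpCat.{u}}
    (G : Sheaf J AddCommGrpCat.{u}) (μ : P ⟶ G.obj) (h : ∀ W ∈ B, Function.Bijective (μ.app (op W)))
    {U : C} (hU : U ∈ B) : Function.Bijective ((toSheafify J P).app (op U)) := by
  have hl : IsIso (sheafifyLift J μ G.property) := by
    have h1 : J.W (toSheafify J P) := J.W_toSheafify P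
    have h2 : J.W (toSheafify J P ≫ sheafifyLift J μ G.property) := by
      rw [toSheafify_sheafifyLift]
      exact W_of_bijective_on hB μ h
    have h3 := J.W.of_precomp _ _ h1 h2
    have h4 := (GrothendieckTopology.W_iff J _).1 h3
    have h5 : IsIso ((presheafToSheaf J AddCommGrpCat.{u} ⋙ sheafToPresheaf J AddCommGrpCat.{u}).map
      (sheafifyLift J μ G.property)) :=
      Functor.map_isIso (sheafToPresheaf J AddCommGrpCat.{u})
        ((presheafToSheaf J AddCommGrpCat.{u}).map (sheafifyLift J μ G.property))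
    have h6 := isIso_toSheafify J ((presheafToSheaf J AddCommGrpCat.{u}).obj P).property
    have h7 := isIso_toSheafify J G.property
    have h8 := toSheafify_naturality J (sheafifyLift J μ G.property)
    exact IsIso.of_isIso_fac_right h8
  have e : ⇑(μ.app (op U)) = ⇑((sheafifyLift J μ G.property).app (op U)) ∘ ⇑((toSheafify J P).app (op U)) := by
    funext x
    exact (congrArg (fun k => k.app (op U) x) (toSheafify_sheafifyLift J μ G.property)).symm
  have := h U hU
  rw [e] at this
  exact (Function.Bijective.of_comp_iff' (ConcreteCategory.bijective_of_isIso _) _).1 this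

variable (I : CochainComplex (Sheaf J AddCommGrpCat.{u}) ℤ)

/-- Boundaries, cycles and cohomology sheaves. -/
noncomputable abbrev bzhSC (q : ℤ) : ShortComplex (Sheaf J AddCommGrpCat.{u}) :=
  ShortComplex.mk (kernel.ι (I.homologyπ q)) (I.homologyπ q) (kernel.condition _)

lemma bzh_shortExact (q : ℤ) : (bzhSC I q).ShortExact :=
  ShortComplex.ShortExact.mk' (ShortComplex.exact_of_f_is_kernel _ (kernelIsKernel _))
    (inferInstanceAs (Mono (kernel.ι (I.homologyπ q)))) (inferInstanceAs (Epi (I.homologyπ q)))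

/-- The differential onto the boundaries. -/
noncomputable def toB (q : ℤ) : I.X q ⟶ kernel (I.homologyπ (q + 1)) :=
  kernel.lift _ (I.toCycles q (q + 1)) (I.toCycles_comp_homologyπ q (q + 1))

lemma toB_comp (q : ℤ) : toB I q ≫ kernel.ι (I.homologyπ (q + 1)) = I.toCycles q (q + 1) :=
  kernel.lift_ι _ _ _

lemma iCycles_toB (q : ℤ) : I.iCycles q ≫ toB I q = 0 := by
  rw [← cancel_mono (kernel.ι (I.homologyπ (q + 1))), Category.assoc, toB_comp, zero_comp,
    ← cancel_mono (I.iCycles (q + 1)), Category.assoc, I.toCycles_i, I.iCycles_d, zero_comp]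

/-- Cycles, terms and boundaries. -/
noncomputable abbrev zibSC (q : ℤ) : ShortComplex (Sheaf J AddCommGrpCat.{u}) :=
  ShortComplex.mk (I.iCycles q) (toB I q) (iCycles_toB I q)

lemma zib_shortExact (q : ℤ) : (zibSC I q).ShortExact := by
  have hex : (ShortComplex.mk (I.toCycles q (q + 1)) (I.homologyπ (q + 1))
      (I.toCycles_comp_homologyπ q (q + 1))).Exact :=
    ShortComplex.exact_of_g_is_cokernel _
      (I.homologyIsCokernel q (q + 1) (by simp))
  refine ShortComplex.ShortExact.mk' ?_ (inferInstanceAs (Mono (I.iCycles q))) hex.epi_kernelLift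
  refine ShortComplex.exact_of_f_is_kernel _ (KernelFork.IsLimit.ofι' _ _ fun {W} k hk => ?_)
  refine ⟨I.liftCycles k (q + 1) (by simp) ?_, I.liftCycles_i _ _ _ _⟩
  rw [← I.toCycles_i q (q + 1), ← toB_comp, ← Category.assoc, ← Category.assoc]
  exact (congrArg (fun x => (x ≫ _) ≫ _) hk).trans (by simp)

variable [∀ n, Injective (I.X n)] (a : ℤ) (ha : ∀ n, n < a → IsZero (I.X n))
  {B : Set C} (h : ∀ U ∈ B, ∀ (p : ℕ) (q : ℤ), Subsingleton (CohSite.HU (I.homology q) (p + 1) U))

include ha in
lemma isZero_boundary (q : ℤ) (hq : q ≤ a) : IsZero (kernel (I.homologyπ q)) := by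
  obtain ⟨q, rfl⟩ : ∃ r, q = r + 1 := ⟨q - 1, by omega⟩
  have := (zib_shortExact I q).epi_g
  rw [IsZero.iff_id_eq_zero, ← cancel_epi (zibSC I q).g]
  exact (ha q (by omega)).eq_of_src _ _

include ha h in
/-- Boundaries and cycles are acyclic on the covering class. -/
lemma subsingleton_HU_boundary {U : C} (hU : U ∈ B) (q : ℤ) (p : ℕ) :
    Subsingleton (CohSite.HU (kernel (I.homologyπ q)) (p + 1) U) ∧
      Subsingleton (CohSite.HU (I.cycles q) (p + 1) U) := by
  have hZ : ∀ (r : ℤ), (∀ p : ℕ, Subsingleton (CohSite.HU (kernel (I.homologyπ r)) (p + 1) U)) →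
      ∀ p : ℕ, Subsingleton (CohSite.HU (I.cycles r) (p + 1) U) := fun r hr p =>
    @subsingleton_ext_middle _ _ _ _ _ (bzh_shortExact I r) (CohCx.freeSheaf J U) (p + 1) (hr p) (h U hU p r)
  suffices H : ∀ p : ℕ, Subsingleton (CohSite.HU (kernel (I.homologyπ q)) (p + 1) U) from
    ⟨H p, hZ q H p⟩
  rcases le_or_gt q a with hq | hq
  · intro p
    have hz := isZero_boundary I a ha q hq
    refine subsingleton_of_forall_eq 0 fun e => ?_
    rw [← Abelian.Ext.comp_mk₀_id e, hz.eq_of_src (𝟙 _) 0, Abelian.Ext.mk₀_zero, Abelian.Ext.comp_zero]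
    try rfl
  · induction q, hq.le using Int.leInduction with
    | base => exact absurd hq (lt_irrefl _)
    | succ r hr ih =>
      intro p
      have hB : ∀ p : ℕ, Subsingleton (CohSite.HU (kernel (I.homologyπ r)) (p + 1) U) := by
        rcases eq_or_lt_of_le hr with rfl | hlt
        · intro p
          have hz := isZero_boundary I a ha a le_rfl
          refine subsingleton_of_forall_eq 0 fun e => ?_
          rw [← Abelian.Ext.comp_mk₀_id e, hz.eq_of_src (𝟙 _) 0, Abelian.Ext.mk₀_zero, Abelian.Ext.comp_zero]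
          try rfl
        · exact ih hlt
      exact @subsingleton_ext_right _ _ _ _ _ (zib_shortExact I r) (CohCx.freeSheaf J U) (p + 1)
        (subsingleton_HU_succ_of_injective _ U p) (hZ r hB (p + 1))

/-- Cycles of presheaves are sections of cycles. -/
noncomputable def cyclesIso (q : ℤ) : (preZ I).cycles q ≅ (I.cycles q).obj :=
  IsLimit.conePointUniqueUpToIso ((preZ I).cyclesIsKernel q (q + 1) (by simp))
    (KernelFork.mapIsLimit _ (I.cyclesIsKernel q (q + 1) (by simp))
      (sheafToPresheaf J AddCommGrpCat.{u}))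

lemma cyclesIso_i (q : ℤ) : (cyclesIso I q).hom ≫ (I.iCycles q).hom = (preZ I).iCycles q :=
  IsLimit.conePointUniqueUpToIso_hom_comp _ _ WalkingParallelPair.zero

lemma toCycles_cyclesIso (p q : ℤ) :
    (preZ I).toCycles p q ≫ (cyclesIso I q).hom = (I.toCycles p q).hom := by
  have : Mono (I.iCycles q).hom :=
    inferInstanceAs (Mono ((sheafToPresheaf J AddCommGrpCat.{u}).map (I.iCycles q)))
  rw [← cancel_mono (I.iCycles q).hom]
  refine ((Category.assoc _ _ _).trans ((congrArg ((preZ I).toCycles p q ≫ ·) (cyclesIso_i I q)).trans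
    ((preZ I).toCycles_i p q))).trans ?_
  exact congrArg (fun k : I.X p ⟶ I.X q => k.hom) (I.toCycles_i p q).symm

/-- Cycles of presheaves to sections of cohomology sheaves. -/
noncomputable def cyclesToSheaf (q : ℤ) : (preZ I).cycles q ⟶ (I.homology q).obj :=
  (cyclesIso I q).hom ≫ (I.homologyπ q).hom

lemma toCycles_cyclesToSheaf (p q : ℤ) : (preZ I).toCycles p q ≫ cyclesToSheaf I q = 0 := by
  rw [cyclesToSheaf, ← Category.assoc, toCycles_cyclesIso]
  exact congrArg (fun k : I.X p ⟶ I.homology q => k.hom) (I.toCycles_comp_homologyπ p q)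

/-- Homology presheaves to sections of cohomology sheaves. -/
noncomputable def homologyToSheaf (q : ℤ) : (preZ I).homology q ⟶ (I.homology q).obj :=
  ((preZ I).homologyIsCokernel (q - 1) q (by simp)).desc
    (CokernelCofork.ofπ (cyclesToSheaf I q) (toCycles_cyclesToSheaf I (q - 1) q))

lemma homologyπ_homologyToSheaf (q : ℤ) :
    (preZ I).homologyπ q ≫ homologyToSheaf I q = cyclesToSheaf I q :=
  Cofork.IsColimit.π_desc ((preZ I).homologyIsCokernel (q - 1) q (by simp))

include ha h in
/-- On the covering class the homology presheaf is the sheaf of sections. -/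
theorem bijective_homologyToSheaf {U : C} (hU : U ∈ B) (q : ℤ) :
    Function.Bijective ((homologyToSheaf I q).app (op U)) := by
  have hπ : ∀ z, (homologyToSheaf I q).app (op U) (((preZ I).homologyπ q).app (op U) z) =
      (I.homologyπ q).hom.app (op U) ((cyclesIso I _).hom.app (op U) z) := fun z =>
    congrArg (fun k => k.app (op U) z) (homologyπ_homologyToSheaf I q)
  have hsurjπ : Function.Surjective (((preZ I).homologyπ q).app (op U)) :=
    (AddCommGrpCat.epi_iff_surjective _).1 inferInstance
  obtain ⟨hBq, hZq⟩ := subsingleton_HU_boundary I a ha h hU q 0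
  obtain ⟨r, rfl⟩ : ∃ r, q = r + 1 := ⟨q - 1, by omega⟩
  have hZr := (subsingleton_HU_boundary I a ha h hU r 0).2
  constructor
  · rw [injective_iff_map_eq_zero]
    intro x hx
    obtain ⟨z, rfl⟩ := hsurjπ x
    rw [hπ] at hx
    let Γ := sheafToPresheaf J AddCommGrpCat.{u} ⋙ (evaluation Cᵒᵖ AddCommGrpCat.{u}).obj (op U)
    have hS := bzh_shortExact I (r + 1)
    have : Γ.Additive := by dsimp [Γ]; infer_instance
    obtain ⟨b, hb⟩ := (ShortComplex.ab_exact_iff _).1
      (hS.exact.map_of_mono_of_preservesKernel Γ hS.mono_f inferInstance)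
      ((cyclesIso I (r + 1)).hom.app (op U) z) hx
    obtain ⟨t, ht⟩ := @surjective_sections_of_subsingleton_HU _ _ _ _ (zib_shortExact I r) U hZr b
    have e : ((preZ I).toCycles r (r + 1)).app (op U) t = z := by
      apply secZ_injective I (r + 1) U
      rw [secZ_toCycles]
      have e1 : (I.iCycles (r + 1)).hom.app (op U) ((cyclesIso I _).hom.app (op U) z) = secZ I (r + 1) U z :=
        congrArg (fun k => k.app (op U) z) (cyclesIso_i I (r + 1))
      rw [← e1, ← hb, ← ht, ← I.toCycles_i r (r + 1), ← toB_comp]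
      rfl
    rw [← e]
    exact congrArg (fun k => k.app (op U) t) ((preZ I).toCycles_comp_homologyπ r (r + 1))
  · intro s
    obtain ⟨w, hw⟩ := @surjective_sections_of_subsingleton_HU _ _ _ _ (bzh_shortExact I (r + 1)) U hBq s
    refine ⟨((preZ I).homologyπ (r + 1)).app (op U) ((cyclesIso I _).inv.app (op U) w), ?_⟩
    rw [hπ, ← ConcreteCategory.comp_apply ((cyclesIso I _).inv.app (op U)), ← NatTrans.comp_app, Iso.inv_hom_id]
    exact hw

end Groth.Misc7.HDU
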