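import Groth.Agent.Misc7.HDU.AcyclicBdd
import Groth.Agent.Misc7.HDU.Rlim
import Groth.Agent.DerivedCoh.KInj.Products
import Mathlib.Algebra.Homology.DerivedCategory.TStructure
import Mathlib.CategoryTheory.Triangulated.TStructure.TruncLTGE

/-!
# Cohomology of objects with acyclic cohomology sheaves on a covering class of objects

If `H^p(U, H^q(K)) = 0` for `p > 0` and all `U` in a covering class `B`, then `H^q(U, K)` is the group
of sections of `H^q(K)` over `U`. The proof compares `K` with the derived limit of its truncations.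
-/

set_option autoImplicit false
universe u

open CategoryTheory Limits Opposite Pretriangulated Triangulated ZeroObject
open Groth.SiteCohomology

set_option synthInstance.maxHeartbeats 400000
set_option maxHeartbeats 4000000
set_option linter.unusedSectionVars false

namespace Groth.Misc7.HDU

variable {C : Type u} [SmallCategory C] {J : GrothendieckTopology C}
  [HasDerivedCategory.{u} (Sheaf J AddCommGrpCat.{u})]

/-- Functoriality of cohomology presheaves. -/
noncomputable def hduMap {K K' : (DerivedCategory (Sheaf J AddCommGrpCat.{u}))} (φ : K ⟶ K') (q : ℤ) :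
    CohCx.HDUPresheaf K q ⟶ CohCx.HDUPresheaf K' q :=
  Functor.whiskerLeft _ (preadditiveYoneda.map (φ⟦q⟧'))

lemma hduMap_comp {K K' K'' : (DerivedCategory (Sheaf J AddCommGrpCat.{u}))} (φ : K ⟶ K') (ψ : K' ⟶ K'') (q : ℤ) :
    hduMap (φ ≫ ψ) q = hduMap φ q ≫ hduMap ψ q := by
  simp only [hduMap, Functor.map_comp, Functor.whiskerLeft_comp]

lemma hduMap_app {K K' : (DerivedCategory (Sheaf J AddCommGrpCat.{u}))} (φ : K ⟶ K') (q : ℤ) (U : C) (x : CohCx.HDU K q U) :
    (hduMap φ q).app (op U) x = x ≫ φ⟦q⟧' := rfl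

/-- A class in a presheaf with vanishing sheafification is locally zero. -/
lemma locally_zero {P : Cᵒᵖ ⥤ AddCommGrpCat.{u}} (h : IsZero ((presheafToSheaf J AddCommGrpCat.{u}).obj P))
    {U : C} (x : P.obj (op U)) : Presheaf.equalizerSieve (F := P) x 0 ∈ J U := by
  refine Presheaf.equalizerSieve_mem J (toSheafify J P) (X := op U) x 0 ?_
  have : toSheafify J P = 0 :=
    IsZero.eq_of_tgt (Functor.map_isZero (sheafToPresheaf J AddCommGrpCat.{u}) h) _ _
  rw [this]
  exact (map_zero _).symm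

lemma isZero_presheafToSheaf_of_locally_zero (P : Cᵒᵖ ⥤ AddCommGrpCat.{u})
    (h : ∀ (U : C) (x : P.obj (op U)), Presheaf.equalizerSieve (F := P) x 0 ∈ J U) :
    IsZero ((presheafToSheaf J AddCommGrpCat.{u}).obj P) := by
  let Z : Cᵒᵖ ⥤ AddCommGrpCat.{u} := (Functor.const _).obj (AddCommGrpCat.of PUnit.{u + 1})
  have hZ : ∀ U, Subsingleton (Z.obj U : AddCommGrpCat.{u}) := fun _ =>
    inferInstanceAs (Subsingleton PUnit.{u + 1})
  let z : P ⟶ Z := 0
  have : Presheaf.IsLocallySurjective J z :=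
    Presheaf.isLocallySurjective_of_surjective J z fun U s => ⟨0, @Subsingleton.elim _ (hZ U) _ _⟩
  have : Presheaf.IsLocallyInjective J z := ⟨fun {U} x y _ => by
    refine J.superset_covering (fun V g hg => ?_) (J.intersection_covering (h _ x) (h _ y))
    exact hg.1.trans hg.2.symm⟩
  have : IsIso ((presheafToSheaf J AddCommGrpCat.{u}).map z) :=
    (GrothendieckTopology.W_iff J z).1 (J.W_of_isLocallyBijective z)
  exact (Functor.map_isZero _ (Functor.isZero _ fun U =>
    @AddCommGrpCat.isZero_of_subsingleton _ (hZ U))).of_iso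
      (asIso ((presheafToSheaf J AddCommGrpCat.{u}).map z))

lemma isZero_sheafify_HDU {K : (DerivedCategory (Sheaf J AddCommGrpCat.{u}))} {q : ℤ} (h : IsZero (CohCx.HD K q)) :
    IsZero ((presheafToSheaf J AddCommGrpCat.{u}).obj (CohCx.HDUPresheaf K q)) := by
  obtain ⟨e⟩ := nonempty_sheafify_HDUPresheaf_iso K q
  exact h.of_iso e

/-- The shifted long exact sequence of a triangle, without signs. -/
lemma shifted_exact {X Y Z : (DerivedCategory (Sheaf J AddCommGrpCat.{u}))} (l : X ⟶ Y) (g : Y ⟶ Z)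
    (c : Z ⟶ X⟦(1 : ℤ)⟧) (hT : Triangle.mk l g c ∈ distinguishedTriangles) (q : ℤ) :
    ∃ δ : Z⟦q⟧ ⟶ X⟦q + 1⟧, l⟦q⟧' ≫ g⟦q⟧' = 0 ∧ δ ≫ l⟦q + 1⟧' = 0 ∧
      (∀ {A : (DerivedCategory (Sheaf J AddCommGrpCat.{u}))} (x : A ⟶ Y⟦q⟧), x ≫ g⟦q⟧' = 0 →
        ∃ w : A ⟶ X⟦q⟧, x = w ≫ l⟦q⟧') ∧
      ∀ {A : (DerivedCategory (Sheaf J AddCommGrpCat.{u}))} (z : A ⟶ Z⟦q⟧), z ≫ δ = 0 →
        ∃ t : A ⟶ Y⟦q⟧, z = t ≫ g⟦q⟧' := by
  have hTq := Triangle.shift_distinguished _ hT q
  let e := (shiftFunctorAdd' (DerivedCategory (Sheaf J AddCommGrpCat.{u})) q 1 (q + 1) rfl).inv.app X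
  let m₃ : Z⟦q⟧ ⟶ X⟦q⟧⟦(1 : ℤ)⟧ := ((Triangle.shiftFunctor _ q).obj (Triangle.mk l g c)).mor₃
  have h31 : m₃ ≫ (q.negOnePow • l⟦q⟧')⟦(1 : ℤ)⟧' = 0 := comp_distTriang_mor_zero₃₁ _ hTq
  refine ⟨m₃ ≫ e, ?_, ?_, fun {A} x hx => ?_, fun {A} z hz => ?_⟩
  · rw [← Functor.map_comp, show l ≫ g = 0 from comp_distTriang_mor_zero₁₂ _ hT, Functor.map_zero]
  · rw [Functor.map_units_smul, Linear.comp_units_smul, smul_eq_zero_iff_eq] at h31
    rw [Category.assoc]
    refine (congrArg (m₃ ≫ ·) ((shiftFunctorAdd' (DerivedCategory (Sheaf J AddCommGrpCat.{u}))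
      q 1 (q + 1) rfl).inv.naturality l).symm).trans ?_
    exact (Category.assoc _ _ _).symm.trans ((congrArg (· ≫ _) h31).trans zero_comp)
  · have h0 : x ≫ (q.negOnePow • g⟦q⟧') = 0 := by rw [Linear.comp_units_smul, hx, smul_zero]
    obtain ⟨w, hw⟩ : ∃ w : A ⟶ X⟦q⟧, x = w ≫ (q.negOnePow • l⟦q⟧') :=
      Triangle.coyoneda_exact₂ _ hTq x h0
    exact ⟨q.negOnePow • w, by rw [hw, Linear.comp_units_smul, Linear.units_smul_comp]⟩
  · have h0 : z ≫ m₃ = 0 := by rwa [← Category.assoc, Preadditive.IsIso.comp_right_eq_zero] at hz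
    obtain ⟨t, ht⟩ : ∃ t : A ⟶ Y⟦q⟧, z = t ≫ (q.negOnePow • g⟦q⟧') :=
      Triangle.coyoneda_exact₃ _ hTq z h0
    exact ⟨q.negOnePow • t, by rw [ht, Linear.comp_units_smul, Linear.units_smul_comp]⟩

/-- Restriction of cohomology classes. -/
noncomputable abbrev res' {K : (DerivedCategory (Sheaf J AddCommGrpCat.{u}))} {q : ℤ} {U V : C} (g : V ⟶ U)
    (x : CohCx.HDU K q U) : CohCx.HDU K q V :=
  (DerivedCategory.singleFunctor (Sheaf J AddCommGrpCat.{u}) 0).map (CohCx.freeSheafMap J g) ≫ x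

lemma res'_comp {K : (DerivedCategory (Sheaf J AddCommGrpCat.{u}))} {q : ℤ} {U V W : C} (g : V ⟶ U)
    (a : W ⟶ V) (x : CohCx.HDU K q U) : res' (a ≫ g) x = res' a (res' g x) := by
  have h : CohCx.freeSheafMap J (a ≫ g) = CohCx.freeSheafMap J a ≫ CohCx.freeSheafMap J g :=
    Functor.map_comp (yoneda ⋙ freeSh J) a g
  simp only [res', h, Functor.map_comp, Category.assoc]

/-- The second map of a triangle is locally bijective on cohomology presheaves if the first term has
no cohomology in two degrees. -/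
lemma W_hduMap_mor₂ (T : Triangle (DerivedCategory (Sheaf J AddCommGrpCat.{u})))
    (hT : T ∈ distinguishedTriangles) (q : ℤ)
    (h1 : IsZero (CohCx.HD T.obj₁ q)) (h2 : IsZero (CohCx.HD T.obj₁ (q + 1))) :
    J.W (hduMap T.mor₂ q) := by
  obtain ⟨δ, h12, h31, hex₂, hex₃⟩ := shifted_exact T.mor₁ T.mor₂ T.mor₃ hT q
  have : Presheaf.IsLocallyInjective J (hduMap T.mor₂ q) := ⟨fun {U} x y hxy => by
    let x' : CohCx.HDU T.obj₂ q U.unop := x
    let y' : CohCx.HDU T.obj₂ q U.unop := y
    have h0 : (x' - y') ≫ T.mor₂⟦q⟧' = 0 := (Preadditive.sub_comp _ _ _).trans (sub_eq_zero.2 hxy)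
    obtain ⟨w, hw⟩ := hex₂ _ h0
    refine J.superset_covering (fun V g hg => ?_) (locally_zero (isZero_sheafify_HDU h1) w)
    have hg' : res' g w = 0 := hg.trans (map_zero _)
    refine (sub_eq_zero (a := res' g x') (b := res' g y')).1 ?_
    calc res' g x' - res' g y' = res' g (x' - y') := (Preadditive.comp_sub _ _ _).symm
      _ = res' g w ≫ T.mor₁⟦q⟧' := (congrArg (_ ≫ ·) hw).trans (Category.assoc _ _ _).symm
      _ = 0 := by rw [hg', zero_comp]⟩
  have : Presheaf.IsLocallySurjective J (hduMap T.mor₂ q) := ⟨fun {U} z => by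
    let z' : CohCx.HDU T.obj₃ q U := z
    refine J.superset_covering (fun V g hg => ?_)
      (locally_zero (isZero_sheafify_HDU h2) (z' ≫ δ : CohCx.HDU T.obj₁ (q + 1) U))
    obtain ⟨t, ht⟩ := hex₃ (res' g z') ((Category.assoc _ _ _).trans (hg.trans (map_zero _)))
    exact ⟨(t : CohCx.HDU T.obj₂ q V), ht.symm⟩⟩
  exact J.W_of_isLocallyBijective _

/-- A map locally bijective on all cohomology presheaves is an isomorphism. -/
lemma isIso_of_W {K P : (DerivedCategory (Sheaf J AddCommGrpCat.{u}))} (l : K ⟶ P)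
    (h : ∀ q, J.W (hduMap l q)) : IsIso l := by
  obtain ⟨Z, g, c, hT⟩ := distinguished_cocone_triangle l
  suffices hZ : IsZero Z from (Triangle.isZero₃_iff_isIso₁ _ hT).1 hZ
  let Z0 : (DerivedCategory (Sheaf J AddCommGrpCat.{u})) := Z
  have hHD : ∀ q, IsZero (CohCx.HD Z0 q) := by
    intro q
    obtain ⟨e⟩ := nonempty_sheafify_HDUPresheaf_iso Z0 q
    refine IsZero.of_iso (isZero_presheafToSheaf_of_locally_zero _ fun U z => ?_) e.symm
    obtain ⟨δ, h12, h31, hex₂, hex₃⟩ := shifted_exact l g c hT q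
    let z' : CohCx.HDU Z q U := z
    haveI := ((J.W_iff_isLocallyBijective (hduMap l (q + 1))).1 (h (q + 1))).1
    haveI := ((J.W_iff_isLocallyBijective (hduMap l q)).1 (h q)).2
    have hcov := Presheaf.equalizerSieve_mem J (hduMap l (q + 1)) (X := op U)
      (z' ≫ δ : CohCx.HDU K (q + 1) U) 0
      (((Category.assoc _ _ _).trans ((congrArg (z' ≫ ·) h31).trans comp_zero)).trans (map_zero _).symm)
    refine J.transitive hcov _ fun V f hf => ?_
    obtain ⟨t, ht⟩ := hex₃ (res' f z') ((Category.assoc _ _ _).trans (hf.trans (map_zero _)))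
    refine J.superset_covering (fun W a ha => ?_) (Presheaf.imageSieve_mem J (hduMap l q) (U := op V) t)
    obtain ⟨s, hs⟩ := ha
    let s' : CohCx.HDU K q W := s
    have hs' : s' ≫ l⟦q⟧' = res' a t := hs
    refine Eq.trans (b := res' (a ≫ f) z') rfl ?_
    refine Eq.trans ?_ (map_zero _).symm
    rw [res'_comp, ht]
    refine (Category.assoc _ _ _).symm.trans ?_
    change res' a t ≫ g⟦q⟧' = 0
    rw [← hs', Category.assoc, h12, comp_zero]
  rw [IsZero.iff_id_eq_zero]
  have : IsIso (0 : Z0 ⟶ 0) := by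
    rw [DerivedCategory.isIso_iff]
    exact fun q => ⟨0, (hHD q).eq_of_src _ _,
      (Functor.map_isZero (DerivedCategory.homologyFunctor _ q) (isZero_zero _)).eq_of_src _ _⟩
  rw [← cancel_mono (0 : Z0 ⟶ 0)]
  simp

variable (K : (DerivedCategory (Sheaf J AddCommGrpCat.{u}))) {B : Set C} (hB : Covers J B)
  (h : ∀ U ∈ B, ∀ (p : ℕ) (q : ℤ), Subsingleton (CohSite.HU (CohCx.HD K q) (p + 1) U))

/-- The truncations. -/
noncomputable abbrev tw (n : ℕ) : (DerivedCategory (Sheaf J AddCommGrpCat.{u})) := CohCx.truncTower K n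

lemma W_hduMap_toTruncTower (n : ℕ) (q : ℤ) (hq : -(n : ℤ) ≤ q) :
    J.W (hduMap (CohCx.toTruncTower K n) q) := by
  let t : TStructure (DerivedCategory (Sheaf J AddCommGrpCat.{u})) := DerivedCategory.TStructure.t
  let T := (t.triangleLTGE (-(n : ℤ))).obj K
  have hLE : DerivedCategory.IsLE T.obj₁ (-(n : ℤ) - 1) :=
    inferInstanceAs (t.IsLE ((t.triangleLTGE (-(n : ℤ))).obj K).obj₁ (-(n : ℤ) - 1))
  exact W_hduMap_mor₂ T (t.triangleLTGE_distinguished _ K) q
    (T.obj₁.isZero_of_isLE (-(n : ℤ) - 1) q (by omega))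
    (T.obj₁.isZero_of_isLE (-(n : ℤ) - 1) (q + 1) (by omega))

lemma toTruncTower_map (n : ℕ) :
    CohCx.toTruncTower K (n + 1) ≫ CohCx.truncTowerMap K n = CohCx.toTruncTower K n :=
  (DerivedCategory.TStructure.t (C := Sheaf J AddCommGrpCat.{u})).π_natTransTruncGEOfLE_app _ _ _ K

include hB h in
/-- For the truncations cohomology is given by sections of cohomology sheaves on `B`. -/
lemma bijective_toSheafify_tw (n : ℕ) (q : ℤ) {U : C} (hU : U ∈ B) :
    Function.Bijective ((toSheafify J (CohCx.HDUPresheaf (tw K n) q)).app (op U)) := by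
  let t : TStructure (DerivedCategory (Sheaf J AddCommGrpCat.{u})) := DerivedCategory.TStructure.t
  have hGE : DerivedCategory.IsGE (tw K n) (-(n : ℤ)) :=
    inferInstanceAs (t.IsGE ((t.truncGE (-(n : ℤ))).obj K) (-(n : ℤ)))
  obtain ⟨M, hM, ⟨e⟩⟩ := DerivedCategory.exists_iso_Q_obj_of_isGE (tw K n) (-(n : ℤ))
  obtain ⟨I, i, hi, hinj, hI⟩ :=
    CochainComplex.Plus.modelCategoryQuillen.exists_quasiIso_injective M (-(n : ℤ))
  have : I.IsKInjective := CochainComplex.isKInjective_of_injective I (-(n : ℤ))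
  let e' : DerivedCategory.Q.obj I ≅ tw K n := (asIso (DerivedCategory.Q.map i)).symm ≪≫ e.symm
  have ha : ∀ m : ℤ, m < -(n : ℤ) → IsZero (I.X m) := fun m hm =>
    CochainComplex.isZero_of_isStrictlyGE I (-(n : ℤ)) m hm
  have hh : ∀ W ∈ B, ∀ (p : ℕ) (r : ℤ), Subsingleton (CohSite.HU (I.homology r) (p + 1) W) := by
    intro W hW p r
    let e1 : I.homology r ≅ CohCx.HD (tw K n) r :=
      ((DerivedCategory.homologyFunctorFactors _ r).app I).symm ≪≫
        (DerivedCategory.homologyFunctor _ r).mapIso e'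
    rcases lt_or_ge r (-(n : ℤ)) with hr | hr
    · have hz : IsZero (I.homology r) := ((tw K n).isZero_of_isGE (-(n : ℤ)) r hr).of_iso e1
      refine subsingleton_of_forall_eq 0 fun x => ?_
      rw [← Abelian.Ext.comp_mk₀_id x, hz.eq_of_src (𝟙 _) 0, Abelian.Ext.mk₀_zero, Abelian.Ext.comp_zero]
      try rfl
    · haveI := (GrothendieckTopology.W_iff J _).1 (W_hduMap_toTruncTower K n r hr)
      obtain ⟨a⟩ := nonempty_sheafify_HDUPresheaf_iso K r
      obtain ⟨b⟩ := nonempty_sheafify_HDUPresheaf_iso (tw K n) r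
      let e2 : CohCx.HD K r ≅ I.homology r := a.symm ≪≫
        asIso ((presheafToSheaf J AddCommGrpCat.{u}).map (hduMap (CohCx.toTruncTower K n) r)) ≪≫
          b ≪≫ e1.symm
      haveI : Subsingleton (Abelian.Ext (CohCx.freeSheaf J W) (CohCx.HD K r) (p + 1)) := h W hW p r
      exact (extIsoRight e2 (CohCx.freeSheaf J W) (p + 1)).symm.toEquiv.subsingleton
  obtain ⟨a⟩ := nonempty_homology_iso_HDUPresheaf I q
  let μ := (a ≪≫ hduPresheafMapIso e' q).inv ≫ homologyToSheaf I q
  refine bijective_toSheafify hB (I.homology q) μ (fun W hW => ?_) hU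
  exact (bijective_homologyToSheaf I (-(n : ℤ)) ha hh hW q).comp
    (ConcreteCategory.bijective_of_isIso ((a ≪≫ hduPresheafMapIso e' q).inv.app (op W)))

include hB h in
/-- The transition maps are bijective in the stable range. -/
lemma bijective_transition (n : ℕ) (q : ℤ) (hq : -(n : ℤ) ≤ q) {U : C} (hU : U ∈ B) :
    Function.Bijective ((hduMap (CohCx.truncTowerMap K n) q).app (op U)) := by
  have h1 : J.W (hduMap (CohCx.truncTowerMap K n) q) := by
    refine J.W.of_precomp _ _ (W_hduMap_toTruncTower K (n + 1) q (by push_cast; omega)) ?_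
    rw [← hduMap_comp, toTruncTower_map]
    exact W_hduMap_toTruncTower K n q hq
  have hiso := (GrothendieckTopology.W_iff J _).1 h1
  let φ := hduMap (CohCx.truncTowerMap K n) q
  have hsq : ∀ x, (toSheafify J (CohCx.HDUPresheaf (tw K n) q)).app (op U) (φ.app (op U) x) =
      (sheafifyMap J φ).app (op U)
        ((toSheafify J (CohCx.HDUPresheaf (tw K (n + 1)) q)).app (op U) x) := fun x =>
    congrArg (fun k => k.app (op U) x) (toSheafify_naturality J φ)
  have hb : Function.Bijective ((sheafifyMap J φ).app (op U)) := by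
    have : IsIso ((presheafToSheaf J AddCommGrpCat.{u}).map φ).hom :=
      Functor.map_isIso (sheafToPresheaf J AddCommGrpCat.{u}) ((presheafToSheaf J AddCommGrpCat.{u}).map φ)
    exact ConcreteCategory.bijective_of_isIso (((presheafToSheaf J AddCommGrpCat.{u}).map φ).hom.app (op U))
  have h3 := hb.comp (bijective_toSheafify_tw K hB h (n + 1) q hU)
  exact (Function.Bijective.of_comp_iff' (bijective_toSheafify_tw K hB h n q hU) _).1
    (by convert h3 using 1; funext x; exact hsq x)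

/-- Eventually bijective systems have no `R¹lim`. -/
lemma limOne_of_eventually_bijective : ∀ (N : ℕ) (A : ℕ → Type u) [∀ n, AddCommGroup (A n)]
    (t : ∀ n, A (n + 1) →+ A n), (∀ n, N ≤ n → Function.Bijective (t n)) → CohCx.LimOneIsZero A t
  | 0, A, _, t, ht => fun c => by
    let b : ∀ n, A n := fun n => Nat.rec (motive := A) (0 : A 0)
      (fun n bn => Function.surjInv (ht n n.zero_le).2 (bn - c n)) n
    refine ⟨b, funext fun n => ?_⟩
    have e : t n (b (n + 1)) = b n - c n := Function.surjInv_eq (ht n n.zero_le).2 _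
    change b n - t n (b (n + 1)) = c n
    rw [e, sub_sub_cancel]
  | N + 1, A, _, t, ht => fun c => by
    obtain ⟨b, hb⟩ := limOne_of_eventually_bijective N (fun n => A (n + 1)) (fun n => t (n + 1))
      (fun n hn => ht (n + 1) (by omega)) fun n => c (n + 1)
    refine ⟨fun n => match n with
      | 0 => c 0 + t 0 (b 0)
      | m + 1 => b m, funext fun n => ?_⟩
    cases n with
    | zero => exact add_sub_cancel_right _ _
    | succ m => exact congrFun hb m

/-- Elements of an eventually bijective system extend to compatible families. -/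
lemma exists_compatible : ∀ (N : ℕ) (A : ℕ → Type u) [∀ n, AddCommGroup (A n)]
    (t : ∀ n, A (n + 1) →+ A n), (∀ n, N ≤ n → Function.Bijective (t n)) → ∀ z : A N,
      ∃ x : ∀ n, A n, (∀ n, t n (x (n + 1)) = x n) ∧ x N = z
  | 0, A, _, t, ht, z =>
    ⟨fun n => Nat.rec (motive := A) z (fun n xn => Function.surjInv (ht n n.zero_le).2 xn) n,
      fun n => Function.surjInv_eq (ht n n.zero_le).2 _, rfl⟩
  | N + 1, A, _, t, ht, z => by
    obtain ⟨x, hx, hxN⟩ := exists_compatible N (fun n => A (n + 1)) (fun n => t (n + 1))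
      (fun n hn => ht (n + 1) (by omega)) z
    refine ⟨fun n => match n with
      | 0 => t 0 (x 0)
      | m + 1 => x m, fun n => ?_, hxN⟩
    cases n with
    | zero => rfl
    | succ m => exact hx m

include hB h in
/-- Cohomology over members of `B` is the group of sections of the cohomology sheaf. -/
theorem nonempty_HDU_equiv {U : C} (hU : U ∈ B) (q : ℤ) :
    Nonempty (CohCx.HDU K q U ≃+ (CohCx.HD K q).obj.obj (op U)) := by
  haveI : HasProduct (tw K) :=
    haveI : HasLimitsOfShape (Discrete (ULift.{u} ℕ)) (DerivedCategory (Sheaf J AddCommGrpCat.{u})) :=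
      Groth.DerivedCoh.KInjRes.hasProducts (A := Sheaf J AddCommGrpCat.{u}) (ULift.{u} ℕ)
    haveI : HasLimitsOfShape (Discrete ℕ) (DerivedCategory (Sheaf J AddCommGrpCat.{u})) :=
      hasLimitsOfShape_of_equivalence (Discrete.equivalence Equiv.ulift.{u, 0})
    inferInstance
  obtain ⟨P, a, c, hP⟩ : ∃ (P : (DerivedCategory (Sheaf J AddCommGrpCat.{u}))) (a : ∀ n, P ⟶ tw K n) (c : (∏ᶜ tw K) ⟶ P⟦(1 : ℤ)⟧),
      Triangle.mk (Pi.lift a)
        (Pi.lift fun n => Pi.π (tw K) n - Pi.π (tw K) (n + 1) ≫ CohCx.truncTowerMap K n) c ∈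
          distinguishedTriangles := by
    obtain ⟨P, f, c, hP⟩ := distinguished_cocone_triangle₁
      (Pi.lift fun n => Pi.π (tw K) n - Pi.π (tw K) (n + 1) ≫ CohCx.truncTowerMap K n)
    refine ⟨P, fun n => f ≫ Pi.π _ n, c, ?_⟩
    have : Pi.lift (fun n => f ≫ Pi.π (tw K) n) = f := Pi.hom_ext _ _ fun n => Pi.lift_π _ _
    rw [this]
    exact hP
  have hL : CohCx.IsRlimVia (tw K) (CohCx.truncTowerMap K) P a := ⟨c, hP⟩
  -- stable range
  have stab : ∀ (r : ℤ) (V : C), V ∈ B → ∀ n, (1 - r).toNat ≤ n →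
      Function.Bijective ((hduMap (a n) r).app (op V)) := by
    intro r V hV n hn
    let X := (DerivedCategory.singleFunctor (Sheaf J AddCommGrpCat.{u}) 0).obj (CohCx.freeSheaf J V)
    have hbij : ∀ m, n ≤ m → ∀ s : ℤ, (s = r ∨ s = r - 1) →
        Function.Bijective ((hduMap (CohCx.truncTowerMap K m) s).app (op V)) := fun m hm s hs =>
      bijective_transition K hB h m s (by omega) hV
    have hz : ∀ y : X ⟶ P⟦r⟧, (∀ m, y ≫ (a m)⟦r⟧' = 0) → y = 0 := fun y hy =>
      eq_zero_of_images _ a hL X r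
        (limOne_of_eventually_bijective n (fun m => X ⟶ (tw K m)⟦(r - 1)⟧)
          (fun m => Preadditive.rightComp X ((CohCx.truncTowerMap K m)⟦(r - 1)⟧'))
          (fun m hm => hbij m hm (r - 1) (Or.inr rfl))) y hy
    have hstep : ∀ (y : X ⟶ P⟦r⟧) (m : ℕ),
        (y ≫ (a (m + 1))⟦r⟧') ≫ (CohCx.truncTowerMap K m)⟦r⟧' = y ≫ (a m)⟦r⟧' := by
      intro y m
      rw [Category.assoc, ← Functor.map_comp]
      congr 2
      have h12 : Pi.lift a ≫ (Pi.lift fun n => Pi.π (tw K) n - Pi.π (tw K) (n + 1) ≫ CohCx.truncTowerMap K n) =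
          0 := comp_distTriang_mor_zero₁₂ _ hP
      have h' := congrArg (· ≫ Pi.π (tw K) m) h12
      simp only [Category.assoc, Pi.lift_π, Preadditive.comp_sub, zero_comp, Pi.lift_π_assoc, sub_eq_zero] at h'
      exact h'.symm
    constructor
    · rw [injective_iff_map_eq_zero]
      intro y hy
      refine hz y fun m => ?_
      rcases le_total n m with hm | hm
      · induction m, hm using Nat.le_induction with
        | base => exact hy
        | succ m hm ih =>
          apply (hbij m hm r (Or.inl rfl)).1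
          refine (hstep y m).trans (ih.trans ?_)
          exact (map_zero _).symm
      · induction hm using Nat.decreasingInduction with
        | self => exact hy
        | of_succ m _ ih => rw [← hstep y m, ih, zero_comp]
    · intro z
      suffices hx : ∃ x : ∀ m, X ⟶ (tw K m)⟦r⟧,
          (∀ m, x (m + 1) ≫ (CohCx.truncTowerMap K m)⟦r⟧' = x m) ∧ x n = z by
        obtain ⟨x, hxc, hxn⟩ := hx
        obtain ⟨y, hy⟩ := exists_of_compatible _ a hL X r x hxc
        exact ⟨y, (hy n).trans hxn⟩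
      exact exists_compatible n (fun m => X ⟶ (tw K m)⟦r⟧)
        (fun m => Preadditive.rightComp X ((CohCx.truncTowerMap K m)⟦r⟧'))
        (fun m hm => hbij m hm r (Or.inl rfl)) z
  -- the comparison map
  let z := shiftFunctorZero (DerivedCategory (Sheaf J AddCommGrpCat.{u})) ℤ
  obtain ⟨l, hl⟩ := exists_of_compatible _ a hL K 0
    (fun n => CohCx.toTruncTower K n ≫ z.inv.app _) fun n => by
      rw [Category.assoc]
      refine (congrArg (_ ≫ ·) (z.inv.naturality (CohCx.truncTowerMap K n)).symm).trans ?_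
      rw [← Category.assoc]
      exact congrArg (· ≫ _) (toTruncTower_map K n)
  let l₀ := l ≫ z.hom.app P
  have hl₀ : ∀ n, l₀ ≫ a n = CohCx.toTruncTower K n := fun n => by
    refine (cancel_mono (z.inv.app (tw K n))).1 (Eq.trans ?_ (hl n))
    refine (Category.assoc _ _ _).trans ((congrArg (l₀ ≫ ·) (z.inv.naturality (a n))).trans ?_)
    exact (Category.assoc _ _ _).trans (congrArg (l ≫ ·) (Iso.hom_inv_id_app_assoc z P _))
  have hW : ∀ r, J.W (hduMap l₀ r) := by
    intro r
    have h1 : J.W (hduMap (a (1 - r).toNat) r) := W_of_bijective_on hB _ fun V hV => stab r V hV _ le_rfl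
    refine J.W.of_postcomp _ _ h1 ?_
    rw [← hduMap_comp, hl₀]
    exact W_hduMap_toTruncTower K _ r (by omega)
  haveI := isIso_of_W l₀ hW
  let N := (1 - q).toNat
  have hN : -(N : ℤ) ≤ q := by omega
  haveI := (GrothendieckTopology.W_iff J _).1 (W_hduMap_toTruncTower K N q hN)
  obtain ⟨e⟩ := nonempty_sheafify_HDUPresheaf_iso K q
  let e1 : CohCx.HDU K q U ≃+ CohCx.HDU (tw K N) q U :=
    ((hduPresheafMapIso (asIso l₀) q).app (op U)).addCommGroupIsoToAddEquiv.trans
      (AddEquiv.ofBijective ((hduMap (a N) q).app (op U)).hom (stab q U hU N le_rfl))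
  exact ⟨(e1.trans (AddEquiv.ofBijective ((toSheafify J (CohCx.HDUPresheaf (tw K N) q)).app (op U)).hom
    (bijective_toSheafify_tw K hB h N q hU))).trans
      ((((sheafToPresheaf J AddCommGrpCat.{u}).mapIso
        ((asIso ((presheafToSheaf J AddCommGrpCat.{u}).map (hduMap (CohCx.toTruncTower K N) q))).symm ≪≫ e)).app
          (op U)).addCommGroupIsoToAddEquiv)⟩

end Groth.Misc7.HDU
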