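import Mathlib.CategoryTheory.Triangulated.Pretriangulated
import Mathlib.CategoryTheory.Limits.Preserves.Shapes.Biproducts
import Mathlib.CategoryTheory.Preadditive.Biproducts

/-!
# Mayer–Vietoris exactness from a distinguished triangle
-/

set_option autoImplicit false
universe v u v' u'

open CategoryTheory Limits Pretriangulated

set_option linter.unusedSectionVars false

namespace Groth.Misc7.HDU

variable {A : Type u} [Category.{v} A] [Preadditive A] [HasBinaryBiproducts A]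
  {T : Type u'} [Category.{v'} T] [Preadditive T] [HasZeroObject T] [HasShift T ℤ]
  [∀ n : ℤ, (shiftFunctor T n).Additive] [Pretriangulated T] (F : A ⥤ T) [F.Additive]
  {X₁ X₂ X₃ X₄ : A} (p : X₁ ⟶ X₂) (q : X₁ ⟶ X₃) (r : X₂ ⟶ X₄) (s : X₃ ⟶ X₄)
  (c : F.obj X₄ ⟶ (F.obj X₁)⟦(1 : ℤ)⟧)
  (hT : Triangle.mk (F.map (biprod.lift p (-q))) (F.map (biprod.desc r s)) c ∈ distinguishedTriangles)

include hT in
/-- The Mayer–Vietoris exact sequence of a triangle. -/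
theorem mayerVietoris {K : T} :
    (∀ w : F.obj X₄ ⟶ K, F.map p ≫ F.map r ≫ w + -(F.map q ≫ F.map s ≫ w) = 0) ∧
    (∀ (a : F.obj X₂ ⟶ K) (b : F.obj X₃ ⟶ K), F.map p ≫ a + -(F.map q ≫ b) = 0 →
      ∃ w : F.obj X₄ ⟶ K, F.map r ≫ w = a ∧ F.map s ≫ w = b) ∧
    (∀ (a : F.obj X₂ ⟶ K) (b : F.obj X₃ ⟶ K), c ≫ (F.map p ≫ a + -(F.map q ≫ b))⟦(1 : ℤ)⟧' = 0) ∧
    (∀ x : F.obj X₁ ⟶ K, c ≫ x⟦(1 : ℤ)⟧' = 0 →
      ∃ (a : F.obj X₂ ⟶ K) (b : F.obj X₃ ⟶ K), F.map p ≫ a + -(F.map q ≫ b) = x) ∧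
    (∀ x : F.obj X₁ ⟶ K, F.map r ≫ c ≫ x⟦(1 : ℤ)⟧' = 0 ∧ F.map s ≫ c ≫ x⟦(1 : ℤ)⟧' = 0) ∧
    (∀ w : F.obj X₄ ⟶ K⟦(1 : ℤ)⟧, F.map r ≫ w = 0 → F.map s ≫ w = 0 →
      ∃ x : F.obj X₁ ⟶ K, c ≫ x⟦(1 : ℤ)⟧' = w) := by
  set m₁ := F.map (biprod.lift p (-q)) with hm₁
  set m₂ := F.map (biprod.desc r s) with hm₂
  have h12 : m₁ ≫ m₂ = 0 := comp_distTriang_mor_zero₁₂ _ hT
  have h23 : m₂ ≫ c = 0 := comp_distTriang_mor_zero₂₃ _ hT
  have h31 : c ≫ m₁⟦(1 : ℤ)⟧' = 0 := comp_distTriang_mor_zero₃₁ _ hT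
  have e1 : ∀ {K' : T} (a : F.obj X₂ ⟶ K') (b : F.obj X₃ ⟶ K'),
      F.map p ≫ a + -(F.map q ≫ b) = m₁ ≫ (F.map biprod.fst ≫ a + F.map biprod.snd ≫ b) := by
    intro K' a b
    simp [hm₁, Preadditive.comp_add, ← Functor.map_comp_assoc]
  have e2 : ∀ {K' : T} (z : F.obj (X₂ ⊞ X₃) ⟶ K'),
      F.map biprod.fst ≫ (F.map biprod.inl ≫ z) + F.map biprod.snd ≫ (F.map biprod.inr ≫ z) = z := by
    intro K' z
    rw [← Category.assoc, ← Category.assoc, ← Preadditive.add_comp, ← F.map_comp, ← F.map_comp,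
      ← F.map_add, biprod.total, F.map_id, Category.id_comp]
  have er : ∀ {K' : T} (w : F.obj X₄ ⟶ K'), F.map biprod.inl ≫ m₂ ≫ w = F.map r ≫ w := by
    intro K' w
    simp [hm₂, ← Functor.map_comp_assoc]
  have es : ∀ {K' : T} (w : F.obj X₄ ⟶ K'), F.map biprod.inr ≫ m₂ ≫ w = F.map s ≫ w := by
    intro K' w
    simp [hm₂, ← Functor.map_comp_assoc]
  have ei : ∀ {K' : T} (a : F.obj X₂ ⟶ K') (b : F.obj X₃ ⟶ K'),
      F.map biprod.inl ≫ (F.map biprod.fst ≫ a + F.map biprod.snd ≫ b) = a ∧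
        F.map biprod.inr ≫ (F.map biprod.fst ≫ a + F.map biprod.snd ≫ b) = b := by
    intro K' a b
    simp [Preadditive.comp_add, ← Functor.map_comp_assoc]
  refine ⟨fun w => ?_, fun a b h => ?_, fun a b => ?_, fun x hx => ?_, fun x => ⟨?_, ?_⟩,
    fun w hr hs => ?_⟩
  · rw [e1, ← er, ← es, e2, ← Category.assoc, h12, zero_comp]
  · rw [e1] at h
    obtain ⟨w, hw⟩ := Triangle.yoneda_exact₂ _ hT _ h
    obtain ⟨h1, h2⟩ := ei a b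
    exact ⟨w, (er w).symm.trans ((congrArg (_ ≫ ·) hw.symm).trans h1),
      (es w).symm.trans ((congrArg (_ ≫ ·) hw.symm).trans h2)⟩
  · rw [e1, Functor.map_comp, ← Category.assoc, h31, zero_comp]
  · obtain ⟨z, hz⟩ := Triangle.yoneda_exact₃ _ (rot_of_distTriang _ hT) (x⟦(1 : ℤ)⟧') hx
    obtain ⟨z', rfl⟩ : ∃ z' : F.obj (X₂ ⊞ X₃) ⟶ K, z'⟦(1 : ℤ)⟧' = z :=
      (shiftFunctor T (1 : ℤ)).map_surjective z
    refine ⟨F.map biprod.inl ≫ (-z'), F.map biprod.inr ≫ (-z'), ?_⟩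
    rw [e1, e2]
    apply (shiftFunctor T (1 : ℤ)).map_injective
    erw [Functor.map_comp, Functor.map_neg]
    refine Eq.trans ?_ hz.symm
    simp [Triangle.rotate, hm₁, Preadditive.comp_neg]
    exact (Preadditive.neg_comp _ _).symm
  · rw [← er, ← Category.assoc m₂, h23, zero_comp, comp_zero]
  · rw [← es, ← Category.assoc m₂, h23, zero_comp, comp_zero]
  · have h : m₂ ≫ w = 0 := by
      rw [← e2 (m₂ ≫ w), er, es, hr, hs]
      simp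
    obtain ⟨z, hz⟩ := Triangle.yoneda_exact₃ _ hT w h
    obtain ⟨x, rfl⟩ := (shiftFunctor T (1 : ℤ)).map_surjective z
    exact ⟨x, hz.symm⟩

end Groth.Misc7.HDU
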