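import Groth.Agent.Misc7.HDU.Basic
import Groth.Agent.LocCohZBase.InjRestr
import Mathlib.CategoryTheory.Preadditive.Injective.Preserves
import Mathlib.Algebra.Homology.ShortComplex.ExactFunctor
import Mathlib.CategoryTheory.Abelian.Exact

/-!
# Restriction of K-injective complexes to opens
-/

set_option autoImplicit false
universe u

open CategoryTheory Limits Opposite TopologicalSpace

set_option synthInstance.maxHeartbeats 400000
set_option maxHeartbeats 4000000
set_option linter.unusedSectionVars false

namespace Groth.Misc7.HDU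

variable {X : TopCat.{u}} (U : Opens X)

/-- The left adjoint of restriction to an open (extension by zero). -/
theorem exists_exact_leftAdjoint_restr :
    ∃ (w : CohTop.Ab (TopCat.of U) ⥤ CohTop.Ab X) (_ : w ⊣ CohTop.restrFunctor U) (_ : w.Additive),
      PreservesFiniteLimits w ∧ PreservesFiniteColimits w := by
  have H : Topology.IsOpenEmbedding (TopCat.Hom.hom (CohCx.incl U)) := U.isOpenEmbedding
  have := H.functor_isContinuous
  let w := H.isOpenMap.functor.sheafPullback AddCommGrpCat.{u}
    (Opens.grothendieckTopology (TopCat.of U)) (Opens.grothendieckTopology X)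
  let adj : w ⊣ CohTop.restrFunctor U :=
    H.isOpenMap.functor.sheafAdjunctionContinuous AddCommGrpCat.{u}
      (Opens.grothendieckTopology (TopCat.of U)) (Opens.grothendieckTopology X)
  have : (CohTop.restrFunctor U).PreservesInjectiveObjects :=
    ⟨fun {I} hI => @Groth.LocCohZBase.injective_restr X U I hI⟩
  have hw : w.Additive := adj.left_adjoint_additive
  have hc : PreservesFiniteColimits w :=
    haveI := adj.leftAdjoint_preservesColimits
    inferInstance
  have := Functor.preservesMonomorphisms_of_adjunction_of_preservesInjectiveObjects adj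
  have : w.PreservesHomology := w.preservesHomology_of_preservesMonos_and_cokernels
  exact ⟨w, adj, hw, w.preservesFiniteLimits_of_preservesHomology, hc⟩

/-- Restriction to an open preserves K-injective complexes. -/
theorem isKInjective_restr (I : CochainComplex (CohTop.Ab X) ℤ) [I.IsKInjective] :
    CochainComplex.IsKInjective
      (((CohTop.restrFunctor U).mapHomologicalComplex (ComplexShape.up ℤ)).obj I) := by
  obtain ⟨w, adj, hw, hl, hr⟩ := exists_exact_leftAdjoint_restr U
  exact isKInjective_map_of_adjunction adj I

variable [HasDerivedCategory.{u} (CohTop.Ab X)] [HasDerivedCategory.{u} (CohTop.Ab (TopCat.of U))]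
  [PreservesFiniteLimits (CohTop.restrFunctor U)] [PreservesFiniteColimits (CohTop.restrFunctor U)]

/-- The cohomology presheaf of the restriction is the restriction of the cohomology presheaf. -/
theorem nonempty_HDUPresheaf_restr_iso (K : DerivedCategory (CohTop.Ab X)) (p : ℤ) :
    Nonempty (((Groth.LocCohZBase.isOpenMap_incl U).functor).op ⋙ CohCx.HDUPresheaf K p ≅
      CohCx.HDUPresheaf (J := Opens.grothendieckTopology (TopCat.of U))
        ((CohTop.restrFunctor U).mapDerivedCategory.obj K) p) := by
  obtain ⟨I, hI, -, ⟨e⟩⟩ := exists_kInjective_iso K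
  have := isKInjective_restr U I
  obtain ⟨a⟩ := nonempty_homology_iso_HDUPresheaf I p
  obtain ⟨b⟩ := @nonempty_homology_iso_HDUPresheaf (Opens (TopCat.of U)) _
    (Opens.grothendieckTopology (TopCat.of U))
    (((CohTop.restrFunctor U).mapHomologicalComplex (ComplexShape.up ℤ)).obj I)
    (inferInstanceAs (HasDerivedCategory.{u} (CohTop.Ab (TopCat.of U)))) this p
  let W : ((Opens X)ᵒᵖ ⥤ AddCommGrpCat.{u}) ⥤ ((Opens (TopCat.of U))ᵒᵖ ⥤ AddCommGrpCat.{u}) :=
    (Functor.whiskeringLeft _ _ _).obj (Groth.LocCohZBase.isOpenMap_incl U).functor.op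
  exact ⟨W.mapIso ((hduPresheafMapIso e p).symm ≪≫ a.symm) ≪≫
    (((preZ I).sc p).mapHomologyIso W).symm ≪≫ b ≪≫
      hduPresheafMapIso (((CohTop.restrFunctor U).mapDerivedCategoryFactors.app I).symm ≪≫
        (CohTop.restrFunctor U).mapDerivedCategory.mapIso e) p⟩

end Groth.Misc7.HDU
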